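import Groth.Agent.L12.CotTSmooth
import Groth.Agent.L22.AffineDim
import Mathlib.RingTheory.Spectrum.Prime.FreeLocus
import Mathlib.RingTheory.Etale.Kaehler
import Mathlib.RingTheory.RegularLocalRing.Defs
import Mathlib.RingTheory.Smooth.Kaehler
import Mathlib.RingTheory.LocalProperties.Reduced
import Mathlib.Algebra.Module.Torsion.Basic

/-!
Regularity and locally free differentials over an algebraically closed field.
-/

set_option autoImplicit false
set_option linter.style.haveILetI false
universe u

open TensorProduct IsLocalRing

namespace Groth.L14.SmVar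

section Local

variable {k R : Type u} [Field k] [CommRing R] [IsLocalRing R] [Algebra k R]

/-- For a local algebra with residue field `k`, the fibre of the differentials is the cotangent space. -/
theorem finrank_kaehler_residue_eq_cotangent
    (h : Function.Bijective (algebraMap k (ResidueField R))) :
    Module.finrank (ResidueField R) (ResidueField R ⊗[R] Ω[R⁄k]) =
      Module.finrank (ResidueField R) (CotangentSpace R) := by
  let e : k ≃ₐ[k] ResidueField R := AlgEquiv.ofBijective (Algebra.ofId k _) h
  haveI : Algebra.FormallySmooth k (ResidueField R) := Algebra.FormallySmooth.of_equiv e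
  haveI : Algebra.FormallyUnramified k (ResidueField R) := Algebra.FormallyUnramified.of_equiv e
  have hsurj : Function.Surjective (algebraMap R (ResidueField R)) := residue_surjective
  let f : R →ₐ[k] ResidueField R := IsScalarTower.toAlgHom k R (ResidueField R)
  have hk : Function.Surjective f.kerSquareLift := fun y => by
    obtain ⟨x, rfl⟩ := hsurj y
    exact ⟨Ideal.Quotient.mk _ x, rfl⟩
  have hnil : IsNilpotent (RingHom.ker f.kerSquareLift.toRingHom) := by
    refine ⟨2, ?_⟩
    rw [AlgHom.ker_kerSquareLift f, Ideal.cotangentIdeal_square]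
    rfl
  obtain ⟨l, hl⟩ := (retractionKerCotangentToTensorEquivSection (R := k) (P := R)
    (S := ResidueField R) hsurj).symm
    ⟨Algebra.FormallySmooth.liftOfSurjective (AlgHom.id k _) f.kerSquareLift hk hnil,
      AlgHom.ext fun y => Algebra.FormallySmooth.liftOfSurjective_apply _ _ hk hnil y⟩
  let φ := KaehlerDifferential.kerCotangentToTensor k R (ResidueField R)
  have hinj : Function.Injective φ := Function.LeftInverse.injective (LinearMap.congr_fun hl)
  have hφ : Function.Surjective φ := fun z =>
    (KaehlerDifferential.exact_kerCotangentToTensor_mapBaseChange k R (ResidueField R) hsurj z).mp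
      (Subsingleton.elim _ _)
  have hker : RingHom.ker (algebraMap R (ResidueField R)) = maximalIdeal R := IsLocalRing.ker_residue
  obtain ⟨e1⟩ : Nonempty ((maximalIdeal R).Cotangent ≃ₗ[R]
      (RingHom.ker (algebraMap R (ResidueField R))).Cotangent) := by
    rw [hker]; exact ⟨LinearEquiv.refl R _⟩
  let e2 : CotangentSpace R ≃ₗ[R] ResidueField R ⊗[R] Ω[R⁄k] :=
    e1.trans (LinearEquiv.ofBijective φ ⟨hinj, hφ⟩)
  exact ((e2.extendScalarsOfSurjective hsurj).finrank_eq).symm

end Local

section Global

variable {k A : Type u} [Field k] [CommRing A] [Algebra k A] [Algebra.FiniteType k A]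

/-- At a rational point with flat differentials, the rank is the dimension of the tangent space. -/
theorem finrank_fibre_eq_cotangent [IsAlgClosed k] [Module.Flat A (Ω[A⁄k])] (m : Ideal A) [m.IsMaximal] :
    Module.finrank m.ResidueField (m.ResidueField ⊗[A] Ω[A⁄k]) =
      Module.finrank (ResidueField (Localization.AtPrime m)) (CotangentSpace (Localization.AtPrime m)) := by
  let R := Localization.AtPrime m
  letI := Ideal.Quotient.field m
  haveI : Module.Finite k (A ⧸ m) := finite_of_finite_type_of_isJacobsonRing k (A ⧸ m)
  have h1 : Function.Bijective (algebraMap k (A ⧸ m)) := IsAlgClosed.algebraMap_bijective_of_isIntegral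
  have h2 : Function.Bijective (algebraMap (A ⧸ m) m.ResidueField) := Ideal.bijective_algebraMap_quotient_residueField m
  have h : Function.Bijective (algebraMap k (ResidueField R)) := by
    have : algebraMap k (ResidueField R) = (algebraMap (A ⧸ m) m.ResidueField).comp (algebraMap k (A ⧸ m)) :=
      IsScalarTower.algebraMap_eq k (A ⧸ m) m.ResidueField
    rw [this]
    exact h2.comp h1
  rw [← finrank_kaehler_residue_eq_cotangent (k := k) (R := R) h, m.finrank_fiber_eq_rankAtStalk]
  haveI : Module.Finite A (Ω[A⁄k]) := inferInstance
  haveI : Module.Free R (LocalizedModule m.primeCompl (Ω[A⁄k])) := Module.free_of_flat_of_isLocalRing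
  let e : LocalizedModule m.primeCompl (Ω[A⁄k]) ≃ₗ[R] Ω[R⁄k] :=
    (IsLocalizedModule.linearEquiv m.primeCompl (LocalizedModule.mkLinearMap m.primeCompl (Ω[A⁄k]))
      (KaehlerDifferential.map k k A R)).extendScalarsOfIsLocalization m.primeCompl R
  haveI : Module.Free R (Ω[R⁄k]) := Module.Free.of_equiv e
  rw [Module.finrank_baseChange]
  show Module.finrank R (LocalizedModule m.primeCompl (Ω[A⁄k])) = _
  exact e.finrank_eq

/-- Over an algebraically closed field smoothness is regularity. -/
theorem isRegularRing_iff_formallySmooth [IsAlgClosed k] :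
    IsRegularRing A ↔ Algebra.FormallySmooth k A := by
  haveI : IsNoetherianRing A := Algebra.FiniteType.isNoetherianRing k A
  rw [isRegularRing_iff]
  exact Groth.L12.CotTLib.regular_iff_formallySmooth

include k in
/-- The dimension at a closed point of an irreducible affine scheme of finite type. -/
theorem ringKrullDim_localization_of_irreducible (hirr : (nilradical A).IsPrime) (m : Ideal A) [m.IsMaximal] :
    ringKrullDim (Localization.AtPrime m) = ringKrullDim A := by
  let D := A ⧸ nilradical A
  haveI : IsDomain D := Ideal.Quotient.isDomain _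
  haveI : Algebra.FiniteType k D := inferInstance
  have hnil : nilradical A ≤ m := by rw [nilradical_eq_sInf]; exact sInf_le (inferInstance : m.IsPrime)
  let m' : Ideal D := m.map (Ideal.Quotient.mk _)
  have hsurj : Function.Surjective (Ideal.Quotient.mk (nilradical A)) := Ideal.Quotient.mk_surjective
  have hcm : m'.comap (Ideal.Quotient.mk _) = m := by
    rw [Ideal.comap_map_of_surjective _ hsurj, ← RingHom.ker_eq_comap_bot, Ideal.mk_ker, sup_eq_left.2 hnil]
  haveI : m'.IsMaximal := (Ideal.map_eq_top_or_isMaximal_of_surjective _ hsurj inferInstance).resolve_left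
    fun ht => (inferInstance : m.IsMaximal).ne_top (by rw [← hcm]; rw [show m' = ⊤ from ht]; exact Ideal.comap_top)
  let e : PrimeSpectrum D ≃o PrimeSpectrum A :=
    { toEquiv := Equiv.ofBijective (PrimeSpectrum.comap (Ideal.Quotient.mk (nilradical A)))
        ⟨PrimeSpectrum.comap_injective_of_surjective _ hsurj, fun p => by
          have : p ∈ Set.range (PrimeSpectrum.comap (Ideal.Quotient.mk (nilradical A))) := by
            rw [range_comap_of_surjective _ _ hsurj, Ideal.mk_ker, PrimeSpectrum.mem_zeroLocus]
            simp only [SetLike.coe_subset_coe]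
            rw [nilradical_eq_sInf]; exact sInf_le p.2
          exact this⟩
      map_rel_iff' := fun {a b} => by
        simp only [Equiv.ofBijective_apply, ← PrimeSpectrum.asIdeal_le_asIdeal,
          PrimeSpectrum.comap_asIdeal]
        exact Ideal.comap_le_comap_iff_of_surjective _ hsurj _ _ }
  have he : e ⟨m', inferInstance⟩ = ⟨m, inferInstance⟩ := PrimeSpectrum.ext hcm
  have hh : m.height = m'.height := by
    have h1 := Order.height_orderIso e ⟨m', inferInstance⟩
    rw [he, ← PrimeSpectrum.height_eq_orderHeight, ← PrimeSpectrum.height_eq_orderHeight] at h1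
    exact h1
  rw [IsLocalization.AtPrime.ringKrullDim_eq_height m (Localization.AtPrime m), hh,
    Groth.L22.AffineDim.height_of_isMaximal (k := k) D m']
  exact Order.krullDim_eq_of_orderIso e

theorem isReduced_of_regular_maximal
    (h : ∀ (m : Ideal A) [m.IsMaximal], IsRegularLocalRing (Localization.AtPrime m)) : IsReduced A := by
  refine isReduced_ofLocalizationMaximal A fun m hm => ?_
  haveI := h m
  haveI := Groth.L01.isDomain_of_regular (Localization.AtPrime m)
  infer_instance

theorem regular_iff_kaehler [IsAlgClosed k] (hirr : (nilradical A).IsPrime) (n : ℕ) (hn : ringKrullDim A = n) :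
    (IsReduced A ∧ IsRegularRing A) ↔
      (Module.Projective A (Ω[A⁄k]) ∧
        ∀ (P : Ideal A) [P.IsPrime],
          Module.finrank P.ResidueField (P.ResidueField ⊗[A] Ω[A⁄k]) = n) := by
  haveI : IsNoetherianRing A := Algebra.FiniteType.isNoetherianRing k A
  constructor
  · rintro ⟨-, hreg⟩
    haveI : Algebra.FormallySmooth k A := isRegularRing_iff_formallySmooth.mp hreg
    haveI hproj : Module.Projective A (Ω[A⁄k]) := inferInstance
    refine ⟨hproj, fun P hP => ?_⟩
    obtain ⟨m, hm, hPm⟩ := Ideal.exists_le_maximal P hP.ne_top
    have h1 : Module.finrank m.ResidueField (m.ResidueField ⊗[A] Ω[A⁄k]) = n := by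
      rw [finrank_fibre_eq_cotangent (k := k) m]
      have h2 := (IsRegularLocalRing.iff_finrank_cotangentSpace _).mp
        (hreg.isRegularLocalRing_localization m)
      rw [ringKrullDim_localization_of_irreducible (k := k) hirr m, hn] at h2
      exact_mod_cast h2
    rw [P.finrank_fiber_eq_rankAtStalk, ← h1, m.finrank_fiber_eq_rankAtStalk]
    exact Module.rankAtStalk_eq_of_le_of_finite_of_flat' (Ω[A⁄k]) hPm
  · rintro ⟨hproj, hrk⟩
    have hmax : ∀ (m : Ideal A) [m.IsMaximal], IsRegularLocalRing (Localization.AtPrime m) := fun m _ => by
      rw [IsRegularLocalRing.iff_finrank_cotangentSpace, ← finrank_fibre_eq_cotangent (k := k) m, hrk m,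
        ringKrullDim_localization_of_irreducible (k := k) hirr m, hn]
    refine ⟨isReduced_of_regular_maximal hmax, ?_⟩
    exact (isRegularRing_iff_formallySmooth (k := k)).mpr (Groth.L12.CotTLib.smooth_of_regular_maximal (k := k) hmax).formallySmooth

theorem regular_quotient_iff [IsAlgClosed k] {B : Type u} [CommRing B] [Algebra A B] [Algebra k B]
    [IsScalarTower k A B] [IsRegularRing A] (hsurj : Function.Surjective (algebraMap A B)) :
    IsRegularRing B ↔
      (Module.Projective B (Ω[B⁄k]) ∧
        Function.Injective (KaehlerDifferential.kerCotangentToTensor k A B)) := by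
  haveI : Algebra.FiniteType k B :=
    Algebra.FiniteType.of_surjective (IsScalarTower.toAlgHom k A B) hsurj
  haveI : Algebra.FormallySmooth k A := isRegularRing_iff_formallySmooth.mp ‹_›
  rw [isRegularRing_iff_formallySmooth (k := k), Algebra.formallySmooth_iff,
    Algebra.FormallySmooth.kerCotangentToTensor_injective_iff hsurj]

end Global

end Groth.L14.SmVar
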