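import Groth.Agent.L22.AffineDim
import Mathlib.RingTheory.Kaehler.Basic
import Mathlib.RingTheory.Unramified.Field
import Mathlib.RingTheory.LocalRing.Module
import Mathlib.RingTheory.Localization.FractionRing

/-!
The fibre of the differentials is at least as large as the dimension of a component through the point.
-/

set_option autoImplicit false
universe u

open TensorProduct

namespace Groth.L14.SmVar

theorem trdeg_le_of_span_D {k K : Type u} [Field k] [Field K] [Algebra k K] [Algebra.EssFiniteType k K]
    {r : ℕ} (x : Fin r → K) (hx : Submodule.span K (Set.range fun i => KaehlerDifferential.D k K (x i)) = ⊤) :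
    Algebra.trdeg k K ≤ r := by
  classical
  let L := IntermediateField.adjoin k (Set.range x)
  haveI : Algebra.EssFiniteType L K := Algebra.EssFiniteType.of_comp k L K
  haveI : Algebra.FormallyUnramified L K := by
    refine ⟨?_⟩
    refine subsingleton_of_forall_eq 0 fun w => ?_
    obtain ⟨z, rfl⟩ := KaehlerDifferential.map_surjective k L K w
    have hz : z ∈ Submodule.span K (Set.range fun i => KaehlerDifferential.D k K (x i)) := hx ▸ Submodule.mem_top
    induction hz using Submodule.span_induction with
    | mem y hy =>
      obtain ⟨i, rfl⟩ := hy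
      rw [KaehlerDifferential.map_D]
      exact (KaehlerDifferential.D L K).map_algebraMap (⟨x i, IntermediateField.subset_adjoin k _ ⟨i, rfl⟩⟩ : L)
    | zero => exact map_zero _
    | add a b _ _ ha hb => rw [map_add, ha, hb, add_zero]
    | smul c a _ ha => rw [map_smul, ha, smul_zero]
  haveI : Algebra.IsSeparable L K := Algebra.FormallyUnramified.isSeparable L K
  have halg : Algebra.IsAlgebraic (Algebra.adjoin k (Set.range x)) K :=
    (IntermediateField.isAlgebraic_adjoin_iff_top).1 inferInstance
  obtain ⟨t, ht, htb⟩ := exists_isTranscendenceBasis_subset (R := k) (A := K) (Set.range x)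
  rw [← htb.cardinalMk_eq_trdeg]
  refine (Cardinal.mk_le_mk_of_subset ht).trans ?_
  have := Cardinal.mk_range_le_lift (f := x)
  simpa using this

theorem le_finrank_fibre (k : Type u) [Field k] (A : Type u) [CommRing A] [Algebra k A]
    [Algebra.FiniteType k A] (n : ℕ) (P : Ideal A) [P.IsPrime] (q : Ideal A) [q.IsPrime] (hqP : q ≤ P)
    (hq : (n : WithBot ℕ∞) ≤ ringKrullDim (A ⧸ q)) :
    n ≤ Module.finrank P.ResidueField (P.ResidueField ⊗[A] (Ω[A⁄k])) := by
  classical
  haveI : Module.Finite A (Ω[A⁄k]) := inferInstance
  let κ := P.ResidueField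
  -- finitely many differentials of elements span the fibre
  have hspan : Submodule.span κ (Set.range fun a : A => (1 : κ) ⊗ₜ[A] KaehlerDifferential.D k A a) = ⊤ := by
    refine eq_top_iff.2 fun z _ => ?_
    induction z using TensorProduct.induction_on with
    | zero => exact zero_mem _
    | add u v hu hv => exact add_mem (hu trivial) (hv trivial)
    | tmul c w =>
      rw [← mul_one c, ← smul_eq_mul, ← TensorProduct.smul_tmul']
      refine Submodule.smul_mem _ c ?_
      have hw : w ∈ Submodule.span A (Set.range (KaehlerDifferential.D k A)) :=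
        (KaehlerDifferential.span_range_derivation k A).ge Submodule.mem_top
      induction hw using Submodule.span_induction with
      | mem w hw => obtain ⟨a, rfl⟩ := hw; exact Submodule.subset_span ⟨a, rfl⟩
      | zero => rw [tmul_zero]; exact zero_mem _
      | add u v _ _ hu hv => rw [tmul_add]; exact add_mem (hu trivial) (hv trivial)
      | smul b u _ hu => rw [tmul_smul, ← IsScalarTower.algebraMap_smul κ b]; exact Submodule.smul_mem _ _ (hu trivial)
  obtain ⟨t, htsub, htspan, htli⟩ := exists_linearIndependent κ
    (Set.range fun a : A => (1 : κ) ⊗ₜ[A] KaehlerDifferential.D k A a)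
  rw [hspan] at htspan
  haveI : Fintype t := (htli.setFinite).fintype
  have hcard : Fintype.card t = Module.finrank κ (κ ⊗[A] Ω[A⁄k]) := by
    rw [← finrank_span_eq_card htli, Subtype.range_coe, htspan, finrank_top]
  choose a ha using fun i : t => htsub i.2
  let N : Submodule A (Ω[A⁄k]) := Submodule.span A (Set.range fun i => KaehlerDifferential.D k A (a i))
  have hsub : Subsingleton (κ ⊗[A] (Ω[A⁄k] ⧸ N)) := by
    refine subsingleton_of_forall_eq 0 fun z => ?_
    obtain ⟨y, rfl⟩ : ∃ y, LinearMap.baseChange κ N.mkQ y = z :=
      LinearMap.lTensor_surjective κ N.mkQ_surjective z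
    have hy : y ∈ Submodule.span κ t := htspan ▸ Submodule.mem_top
    induction hy using Submodule.span_induction with
    | mem y hy =>
      rw [show y = (1 : κ) ⊗ₜ[A] KaehlerDifferential.D k A (a ⟨y, hy⟩) from (ha ⟨y, hy⟩).symm,
        LinearMap.baseChange_tmul, Submodule.mkQ_apply,
        (Submodule.Quotient.mk_eq_zero N).2 (Submodule.subset_span ⟨_, rfl⟩), tmul_zero]
    | zero => exact map_zero _
    | add u v _ _ hu hv => rw [map_add, hu, hv, add_zero]
    | smul c u _ hu => rw [map_smul, hu, smul_zero]
  have hnot : (⟨P, inferInstance⟩ : PrimeSpectrum A) ∉ Module.support A (Ω[A⁄k] ⧸ N) := by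
    rw [Module.mem_support_iff_nontrivial_residueField_tensorProduct]
    exact not_nontrivial_iff_subsingleton.2 hsub
  rw [Module.notMem_support_iff'] at hnot
  let D := A ⧸ q
  let K := FractionRing D
  haveI : Algebra.FiniteType k D := inferInstance
  haveI : IsScalarTower k A K := IsScalarTower.of_algebraMap_eq fun x => by
    rw [IsScalarTower.algebraMap_apply k D K, IsScalarTower.algebraMap_apply A D K]; rfl
  let φ : Ω[A⁄k] →ₗ[A] Ω[K⁄k] := KaehlerDifferential.map k k A K
  let y : t → K := fun i => algebraMap A K (a i)
  let W : Submodule K (Ω[K⁄k]) := Submodule.span K (Set.range fun i => KaehlerDifferential.D k K (y i))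
  have hW : ∀ b : A, KaehlerDifferential.D k K (algebraMap A K b) ∈ W := by
    intro b
    obtain ⟨r, hr, hrb⟩ := hnot (Submodule.Quotient.mk (KaehlerDifferential.D k A b))
    rw [← Submodule.Quotient.mk_smul, Submodule.Quotient.mk_eq_zero] at hrb
    have hN : ∀ w ∈ N, φ w ∈ W := fun w hw => by
      induction hw using Submodule.span_induction with
      | mem z hz =>
        obtain ⟨i, rfl⟩ := hz
        rw [KaehlerDifferential.map_D]
        exact Submodule.subset_span ⟨i, rfl⟩
      | zero => rw [map_zero]; exact W.zero_mem
      | add u v _ _ hu hv => rw [map_add]; exact W.add_mem hu hv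
      | smul c u _ hu => rw [map_smul, ← IsScalarTower.algebraMap_smul K c]; exact W.smul_mem _ hu
    have h1 := hN _ hrb
    rw [map_smul, KaehlerDifferential.map_D, ← IsScalarTower.algebraMap_smul K r] at h1
    have hr0 : algebraMap A K r ≠ 0 := by
      rw [IsScalarTower.algebraMap_apply A D K, map_ne_zero_iff _ (IsFractionRing.injective D K)]
      intro h0
      exact hr (hqP (Ideal.Quotient.eq_zero_iff_mem.1 h0))
    have h2 := W.smul_mem (algebraMap A K r)⁻¹ h1
    rwa [smul_smul, inv_mul_cancel₀ hr0, one_smul] at h2
  have hWtop : W = ⊤ := by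
    refine eq_top_iff.2 ?_
    rw [← KaehlerDifferential.span_range_derivation k K, Submodule.span_le]
    rintro _ ⟨x, rfl⟩
    obtain ⟨u, v, hv, rfl⟩ := IsFractionRing.div_surjective (A := D) x
    obtain ⟨u, rfl⟩ := Ideal.Quotient.mk_surjective u
    obtain ⟨v, rfl⟩ := Ideal.Quotient.mk_surjective v
    rw [SetLike.mem_coe, Derivation.leibniz_div]
    exact W.smul_mem _ (W.sub_mem (W.smul_mem _ (hW u)) (W.smul_mem _ (hW v)))
  haveI : Algebra.EssFiniteType D K := Algebra.EssFiniteType.of_isLocalization K (nonZeroDivisors D)
  haveI : Algebra.EssFiniteType k K := Algebra.EssFiniteType.comp k D K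
  obtain ⟨d, -, -, -, hd, -⟩ := L22.AffineDim.exists_normalization k D
  have htr := trdeg_le_of_span_D (k := k) (K := K) (y ∘ (Fintype.equivFin t).symm) (by
    have hr : (Set.range fun i => KaehlerDifferential.D k K ((y ∘ (Fintype.equivFin t).symm) i)) =
        Set.range fun i => KaehlerDifferential.D k K (y i) :=
      (Fintype.equivFin t).symm.surjective.range_comp fun i => KaehlerDifferential.D k K (y i)
    rw [hr]; exact hWtop)
  rw [L22.AffineDim.trdeg_fractionRing k D K hd, hcard] at htr
  have hnd : n ≤ d := by
    have := hd ▸ hq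
    exact_mod_cast this
  have htr' : d ≤ Module.finrank κ (κ ⊗[A] Ω[A⁄k]) := by exact_mod_cast htr
  exact hnd.trans htr'

end Groth.L14.SmVar
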